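import Mathlib.GroupTheory.GroupAction.Quotient
import Mathlib.GroupTheory.GroupAction.FixedPoints
import Mathlib.Algebra.BigOperators.Ring.Finset
import Mathlib.Data.Int.Basic
import Mathlib.Tactic

/-!
Counting in a transitive group with few derangements: the orbit counts on points and on pairs.
-/

set_option autoImplicit false
set_option linter.unusedSectionVars false
set_option linter.style.haveILetI false

namespace Cfsg.Agent.DerangeInvol

open MulAction

variable {G Ω : Type*} [Group G] [Fintype G] [MulAction G Ω] [Fintype Ω] [DecidableEq Ω]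

/-- The number of fixed points. -/
def fx (Ω : Type*) [MulAction G Ω] [Fintype Ω] [DecidableEq Ω] (g : G) : ℕ :=
  (Finset.univ.filter fun ω : Ω => g • ω = ω).card

/-- The derangements. -/
def der (G Ω : Type*) [Group G] [Fintype G] [MulAction G Ω] [Fintype Ω] [DecidableEq Ω] : Finset G :=
  Finset.univ.filter fun g : G => ∀ ω : Ω, g • ω ≠ ω

theorem mem_der {g : G} : g ∈ der G Ω ↔ ∀ ω : Ω, g • ω ≠ ω := by simp [der]

theorem fx_eq_zero {g : G} : fx Ω g = 0 ↔ g ∈ der G Ω := by
  simp [fx, mem_der, Finset.filter_eq_empty_iff]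

theorem fx_le (g : G) : fx Ω g ≤ Fintype.card Ω := Finset.card_le_univ _

theorem fx_one : fx Ω (1 : G) = Fintype.card Ω := by simp [fx]

open Classical in
theorem sum_fx [IsPretransitive G Ω] [Nonempty Ω] : ∑ g : G, fx Ω g = Fintype.card G := by
  have h := MulAction.sum_card_fixedBy_eq_card_orbits_mul_card_group G Ω
  haveI : Subsingleton (Quotient (orbitRel G Ω)) := by
    refine ⟨fun a b => ?_⟩
    induction a using Quotient.inductionOn with
    | h a => induction b using Quotient.inductionOn with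
      | h b => exact Quotient.sound (MulAction.exists_smul_eq G b a)
  rw [Fintype.card_eq_one_iff.2 ⟨Quotient.mk (orbitRel G Ω) (Classical.arbitrary Ω),
    fun y => Subsingleton.elim _ _⟩, one_mul] at h
  rw [← h]
  refine Finset.sum_congr rfl fun g _ => ?_
  rw [fx, Fintype.card_subtype]
  convert rfl using 3
  exact Iff.rfl

/-- The number of orbits on pairs. -/
noncomputable def pairOrbits (G Ω : Type*) [Group G] [MulAction G Ω] : ℕ :=
  Nat.card (Quotient (orbitRel G (Ω × Ω)))

open Classical in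
theorem sum_fx_sq : ∑ g : G, fx Ω g * fx Ω g = pairOrbits G Ω * Fintype.card G := by
  have h := MulAction.sum_card_fixedBy_eq_card_orbits_mul_card_group G (Ω × Ω)
  rw [pairOrbits, Nat.card_eq_fintype_card, ← h]
  refine Finset.sum_congr rfl fun g _ => ?_
  rw [fx, ← Finset.card_product, Fintype.card_subtype]
  refine congrArg Finset.card ?_
  ext x
  simp [MulAction.fixedBy, Prod.ext_iff]

theorem two_le_pairOrbits [Nontrivial Ω] : 2 ≤ pairOrbits G Ω := by
  obtain ⟨a, b, hab⟩ := exists_pair_ne Ω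
  haveI : Nontrivial (Quotient (orbitRel G (Ω × Ω))) := ⟨⟨Quotient.mk _ (a, a), Quotient.mk _ (a, b), fun e => by
    obtain ⟨g, hg⟩ := Quotient.exact e
    simp only [Prod.smul_mk, Prod.mk.injEq] at hg
    exact hab (smul_left_cancel g (hg.1.trans hg.2.symm))⟩⟩
  exact Finite.one_lt_card

theorem three_le_pairOrbits {a b c : Ω} (hb : b ≠ a) (hc : c ≠ a) (h : ∀ g : G, g • a = a → g • b ≠ c) :
    3 ≤ pairOrbits G Ω := by
  classical
  rw [pairOrbits, Nat.card_eq_fintype_card]
  let q : Ω → Quotient (orbitRel G (Ω × Ω)) := fun x => Quotient.mk _ (a, x)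
  have key : ∀ {x y : Ω}, q x = q y → ∃ g : G, g • a = a ∧ g • y = x := fun {x y} e => by
    obtain ⟨g, hg⟩ := Quotient.exact e
    simp only [Prod.smul_mk, Prod.mk.injEq] at hg
    exact ⟨g, hg⟩
  have h1 : q a ≠ q b := fun e => by
    obtain ⟨g, hga, hgb⟩ := key e
    exact hb (smul_left_cancel g (hgb.trans hga.symm))
  have h2 : q a ≠ q c := fun e => by
    obtain ⟨g, hga, hgb⟩ := key e
    exact hc (smul_left_cancel g (hgb.trans hga.symm))
  have h3 : q c ≠ q b := fun e => by
    obtain ⟨g, hga, hgb⟩ := key e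
    exact h g hga hgb
  calc 3 = ({q a, q b, q c} : Finset (Quotient (orbitRel G (Ω × Ω)))).card :=
        (Finset.card_eq_three.2 ⟨_, _, _, h1, h2, Ne.symm h3, rfl⟩).symm
    _ ≤ _ := Finset.card_le_univ _

variable [IsPretransitive G Ω]

theorem card_point_stab (a : Ω) : Fintype.card Ω * Nat.card (stabilizer G a) = Fintype.card G := by
  classical
  have h := Subgroup.card_mul_index (stabilizer G a)
  rw [MulAction.index_stabilizer_of_transitive, Nat.card_eq_fintype_card (α := Ω),
    Nat.card_eq_fintype_card (α := G)] at h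
  rw [mul_comm, h]

theorem exists_der [Nontrivial Ω] : ∃ g : G, g ∈ der G Ω := by
  by_contra h
  push Not at h
  have h1 : ∀ g : G, 1 ≤ fx Ω g := fun g => Nat.one_le_iff_ne_zero.2 fun e => h g (fx_eq_zero.1 e)
  have h2 : 2 ≤ fx Ω (1 : G) := by rw [fx_one]; exact Fintype.one_lt_card
  have h3 : ∑ _g : G, 1 < ∑ g : G, fx Ω g :=
    Finset.sum_lt_sum (fun g _ => h1 g) ⟨1, Finset.mem_univ _, h2⟩
  rw [sum_fx, Finset.sum_const, smul_eq_mul, mul_one, Finset.card_univ] at h3
  exact lt_irrefl _ h3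

theorem der_bound [Nontrivial Ω] (a : Ω) :
    (pairOrbits G Ω - 1) * Nat.card (stabilizer G a) ≤ (der G Ω).card := by
  classical
  set n := Fintype.card Ω
  set R := pairOrbits G Ω
  have hR : 2 ≤ R := two_le_pairOrbits
  have hn : 0 < n := Fintype.card_pos
  have hs : ∑ g : G, ((fx Ω g : ℤ) - 1) * ((fx Ω g : ℤ) - n) = ((R : ℤ) - 1) * Fintype.card G := by
    have e1 : (∑ g : G, (fx Ω g : ℤ)) = Fintype.card G := by exact_mod_cast sum_fx (G := G) (Ω := Ω)
    have e2 : (∑ g : G, (fx Ω g : ℤ) * fx Ω g) = R * Fintype.card G := by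
      exact_mod_cast sum_fx_sq (G := G) (Ω := Ω)
    calc ∑ g : G, ((fx Ω g : ℤ) - 1) * ((fx Ω g : ℤ) - n)
        = ∑ g : G, ((fx Ω g : ℤ) * fx Ω g - (n + 1) * fx Ω g + n) := Finset.sum_congr rfl fun g _ => by ring
      _ = _ := by
        rw [Finset.sum_add_distrib, Finset.sum_sub_distrib, ← Finset.mul_sum, e1, e2, Finset.sum_const,
          Finset.card_univ, nsmul_eq_mul]
        ring
  have hle : ∑ g : G, ((fx Ω g : ℤ) - 1) * ((fx Ω g : ℤ) - n) ≤
      ∑ g : G, (if g ∈ der G Ω then (n : ℤ) else 0) := by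
    refine Finset.sum_le_sum fun g _ => ?_
    by_cases hg : g ∈ der G Ω
    · rw [if_pos hg, fx_eq_zero.2 hg]; simp
    · rw [if_neg hg]
      have h1 : 1 ≤ fx Ω g := Nat.one_le_iff_ne_zero.2 fun e => hg (fx_eq_zero.1 e)
      refine mul_nonpos_of_nonneg_of_nonpos (by omega) ?_
      have := fx_le (Ω := Ω) g
      omega
  rw [hs, Finset.sum_ite_mem, Finset.univ_inter, Finset.sum_const, nsmul_eq_mul] at hle
  have h4 : (R - 1) * Fintype.card G ≤ (der G Ω).card * n := by
    have : (((R - 1) * Fintype.card G : ℕ) : ℤ) ≤ (((der G Ω).card * n : ℕ) : ℤ) := by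
      push_cast [Nat.cast_sub (show 1 ≤ R by omega)]
      linarith
    exact_mod_cast this
  rw [← card_point_stab a] at h4
  refine Nat.le_of_mul_le_mul_right ?_ hn
  calc (R - 1) * Nat.card (stabilizer G a) * n = (R - 1) * (n * Nat.card (stabilizer G a)) := by ring
    _ ≤ _ := h4

theorem sum_rest [DecidableEq G] [Nontrivial Ω] :
    ((∑ y ∈ Finset.univ.filter (fun y : G => y ∉ der G Ω ∧ y ≠ 1), (fx Ω y - 1)) : ℤ) =
      ((der G Ω).card : ℤ) - (Fintype.card Ω - 1) := by
  have e : (∑ g : G, ((fx Ω g : ℤ) - 1)) = 0 := by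
    rw [Finset.sum_sub_distrib, Finset.sum_const, Finset.card_univ, nsmul_eq_mul, mul_one, sub_eq_zero]
    exact_mod_cast sum_fx (G := G) (Ω := Ω)
  have hsplit : ∀ g : G, ((fx Ω g : ℤ) - 1) = (if g ∈ der G Ω then -1 else 0) +
      (if g = 1 then ((Fintype.card Ω : ℤ) - 1) else 0) +
      (if g ∉ der G Ω ∧ g ≠ 1 then ((fx Ω g : ℤ) - 1) else 0) := by
    intro g
    by_cases hg : g ∈ der G Ω
    · have h1 : g ≠ 1 := fun e1 => mem_der.1 hg (Classical.arbitrary Ω) (by rw [e1, one_smul])
      simp [hg, h1, fx_eq_zero.2 hg]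
    · by_cases h1 : g = 1
      · subst h1; simp [hg, fx_one]
      · simp [hg, h1]
  rw [Finset.sum_congr rfl fun g _ => hsplit g, Finset.sum_add_distrib, Finset.sum_add_distrib,
    Finset.sum_ite_mem, Finset.univ_inter, Finset.sum_ite_eq' Finset.univ (1 : G),
    if_pos (Finset.mem_univ _), Finset.sum_const, ← Finset.sum_filter] at e
  simp only [nsmul_eq_mul, mul_neg, mul_one] at e
  linarith

end Cfsg.Agent.DerangeInvol
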