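import Cfsg.Agent.Lib.DerangeInvol.Primitive
import Cfsg.Prelude.Def_Solvable

/-!
A faithful transitive group whose derangements are involutions is an elementary abelian 2-group or a Frobenius group
with elementary abelian kernel.
-/

set_option autoImplicit false
set_option linter.unusedSectionVars false
set_option linter.style.haveILetI false

namespace Cfsg.Agent.DerangeInvol

open MulAction

variable {G Ω : Type*} [Group G] [Finite G] [MulAction G Ω] [Finite Ω]

/-- A proper subgroup misses some element with all its conjugates. -/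
theorem exists_outside {J : Subgroup G} (hJ : J ≠ ⊤) : ∃ x : G, ∀ g : G, g * x * g⁻¹ ∉ J := by
  classical
  haveI := Fintype.ofFinite G
  haveI : Nontrivial (G ⧸ J) := by
    rw [← Finite.one_lt_card_iff_nontrivial]
    exact Subgroup.one_lt_index_of_ne_top hJ
  obtain ⟨x, hx⟩ := exists_der (G := G) (Ω := G ⧸ J)
  refine ⟨x, fun g hg => mem_der.1 hx (QuotientGroup.mk g⁻¹) ?_⟩
  rw [MulAction.Quotient.smul_mk, QuotientGroup.eq]
  rw [show (x • g⁻¹)⁻¹ * g⁻¹ = (g * x * g⁻¹)⁻¹ by simp [mul_assoc]]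
  exact J.inv_mem hg

theorem elementary_comm (h : ∀ g : G, g ^ 2 = 1) : IsMulCommutative G ∧ ∀ g : G, g ^ 2 = 1 :=
  ⟨⟨⟨fun a b => by
    have e : ∀ g : G, g⁻¹ = g := fun g => inv_eq_of_mul_eq_one_left (by rw [← pow_two]; exact h g)
    rw [← e (a * b), mul_inv_rev, e, e]⟩⟩, h⟩

/-- The conclusion from a transitive normal elementary abelian subgroup meeting a stabiliser trivially. -/
theorem of_regular [FaithfulSMul G Ω] (hinv : ∀ g : G, (∀ ω : Ω, g • ω ≠ ω) → g * g = 1) (a : Ω)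
    (N : Subgroup G) [hN : N.Normal] (hN2 : ∀ v ∈ N, v * v = 1) (hNc : ∀ v ∈ N, ∀ w ∈ N, v * w = w * v)
    (htr : ∀ ω : Ω, ∃ v ∈ N, v • a = ω) (hfree : ∀ v ∈ N, v • a = a → v = 1) (hne : N ≠ ⊥) :
    (IsMulCommutative G ∧ ∀ g : G, g ^ 2 = 1) ∨
    (∃ H : Subgroup G, Cfsg.IsFrobeniusComplement H ∧
      (∀ x ∈ Cfsg.frobeniusKernel H, x ^ 2 = 1) ∧
      ∀ x ∈ Cfsg.frobeniusKernel H, ∀ y ∈ Cfsg.frobeniusKernel H, x * y = y * x) := by
  classical
  set H := stabilizer G a with hH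
  have hdec : ∀ g : G, ∃ v ∈ N, ∃ h ∈ H, g = v * h := by
    intro g
    obtain ⟨v, hv, e⟩ := htr (g • a)
    refine ⟨v, hv, v⁻¹ * g, ?_, by group⟩
    rw [hH, mem_stabilizer_iff, mul_smul, inv_smul_eq_iff, e]
  by_cases hb : H = ⊥
  · refine Or.inl (elementary_comm fun g => ?_)
    obtain ⟨v, hv, h, hh, rfl⟩ := hdec g
    rw [hb, Subgroup.mem_bot] at hh
    rw [hh, mul_one, pow_two]
    exact hN2 v hv
  have hinvN : ∀ v ∈ N, v⁻¹ = v := fun v hv => inv_eq_of_mul_eq_one_left (hN2 v hv)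
  have hfix : ∀ h ∈ H, ∀ v ∈ N, h * v = v * h → v ≠ 1 → h = 1 := by
    intro h hh v hv hc hv1
    let d : N → N := fun w => ⟨w * (h * w * h⁻¹), mul_mem w.2 (hN.conj_mem _ w.2 h)⟩
    have hd : ¬ Function.Injective d := fun hinj => hv1 (congrArg Subtype.val (@hinj ⟨v, hv⟩ 1 (Subtype.ext (by
      show v * (h * v * h⁻¹) = (1 : G) * (h * 1 * h⁻¹)
      rw [hc, mul_inv_cancel_right, hN2 v hv, mul_one, mul_inv_cancel, one_mul]))))
    have hns : ¬ Function.Surjective d := fun hs => hd (Finite.injective_iff_surjective.2 hs)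
    rw [Function.Surjective] at hns
    push Not at hns
    obtain ⟨⟨u, hu⟩, hu'⟩ := hns
    have hout : ∀ u ∈ N, (∀ w : N, (d w : G) ≠ u) → h * h = 1 ∧ h * u * h⁻¹ = u := by
      intro u hu hni
      have hder : ∀ ω : Ω, (u * h) • ω ≠ ω := by
        intro ω e
        obtain ⟨w, hw, rfl⟩ := htr ω
        refine hni ⟨w, hw⟩ ?_
        have hhw : (u * (h * w * h⁻¹)) • a = w • a := by
          rw [← e, ← mul_smul]
          conv_rhs => rw [show u * h * w = u * (h * w * h⁻¹) * h by group, mul_smul, show h • a = a from hh]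
        have hm : u * (h * w * h⁻¹) ∈ N := mul_mem hu (hN.conj_mem w hw h)
        have := hfree _ (mul_mem (inv_mem hw) hm) (by rw [mul_smul, hhw, inv_smul_smul])
        rw [inv_mul_eq_one] at this
        show w * (h * w * h⁻¹) = u
        calc w * (h * w * h⁻¹) = u * (h * w * h⁻¹) * (h * w * h⁻¹) := congrArg (· * (h * w * h⁻¹)) this
          _ = u := by rw [mul_assoc, hN2 _ (hN.conj_mem w hw h), mul_one]
      have h1 := hinv _ hder
      have hm : u * (h * u * h⁻¹) ∈ N := mul_mem hu (hN.conj_mem u hu h)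
      have hhh : h * h = (u * (h * u * h⁻¹))⁻¹ := by
        rw [eq_inv_iff_mul_eq_one]
        have h2 : u * (h * u * h⁻¹) * (h * h) = 1 := by rw [← h1]; group
        exact mul_eq_one_comm.1 h2
      have hh1 : h * h = 1 := hfree _ (hhh ▸ inv_mem hm) (by rw [mul_smul, show h • a = a from hh, show h • a = a from hh])
      refine ⟨hh1, ?_⟩
      rw [hh1, eq_comm, inv_eq_one] at hhh
      calc h * u * h⁻¹ = u⁻¹ := eq_inv_of_mul_eq_one_right hhh
        _ = u := hinvN u hu
    have hu'' : ∀ w : N, (d w : G) ≠ u := fun w e => hu' w (Subtype.ext e)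
    obtain ⟨hh2, huc⟩ := hout u hu hu''
    have hall : ∀ w : N, h * (w : G) * h⁻¹ = w := by
      intro w
      by_cases hw : ∀ z : N, (d z : G) ≠ w
      · exact (hout w w.2 hw).2
      · push Not at hw
        obtain ⟨z, hz⟩ := hw
        have : ∀ z' : N, (d z' : G) ≠ u * w := by
          intro z' e
          refine hu'' (z' * z) ?_
          show ((z' : G) * z) * (h * ((z' : G) * z) * h⁻¹) = u
          have hz2 : (z : G) * (h * z * h⁻¹) = w := hz
          have e2 : (z' : G) * (h * z' * h⁻¹) = u * w := e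
          calc (z' : G) * z * (h * ((z' : G) * z) * h⁻¹)
              = (z' : G) * (z * (h * z' * h⁻¹)) * (h * z * h⁻¹) := by group
            _ = (z' : G) * ((h * z' * h⁻¹) * z) * (h * z * h⁻¹) := by
              rw [hNc _ z.2 _ (hN.conj_mem _ z'.2 h)]
            _ = (z' : G) * (h * z' * h⁻¹) * (z * (h * z * h⁻¹)) := by group
            _ = u := by rw [e2, hz2, mul_assoc, hN2 _ w.2, mul_one]
        have h3 := (hout _ (mul_mem hu w.2) this).2
        rw [← conj_mul, huc] at h3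
        exact mul_left_cancel h3
    refine FaithfulSMul.eq_of_smul_eq_smul (α := Ω) fun ω => ?_
    obtain ⟨w, hw, rfl⟩ := htr ω
    rw [one_smul, ← mul_smul, show h * w = w * h from mul_inv_eq_iff_eq_mul.1 (hall ⟨w, hw⟩), mul_smul,
      show h • a = a from hh]
  have hker : ∀ x ∈ Cfsg.frobeniusKernel H, x ∈ N := by
    rintro x (rfl | hx)
    · exact one_mem _
    obtain ⟨v, hv, h, hh, rfl⟩ := hdec x
    by_cases h1 : h = 1
    · rw [h1, mul_one]; exact hv
    exfalso
    let d : N → N := fun w => ⟨w * (h * w * h⁻¹), mul_mem w.2 (hN.conj_mem _ w.2 h)⟩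
    have hinj : Function.Injective d := by
      intro w z e
      have e' : (w : G) * (h * w * h⁻¹) = z * (h * z * h⁻¹) := congrArg Subtype.val e
      by_contra hne'
      refine h1 (hfix h hh ((z : G)⁻¹ * w) (mul_mem (inv_mem z.2) w.2) ?_ fun e1 => hne' (Subtype.ext ?_))
      · refine mul_inv_eq_iff_eq_mul.1 ?_
        rw [← conj_mul, ← conj_inv, hinvN _ z.2, hinvN _ (hN.conj_mem _ z.2 h)]
        calc h * (z : G) * h⁻¹ * (h * w * h⁻¹) = (h * z * h⁻¹) * (((w : G) * w) * (h * w * h⁻¹)) := by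
              rw [hN2 _ w.2, one_mul]
          _ = (h * z * h⁻¹) * ((w : G) * ((z : G) * (h * z * h⁻¹))) := by rw [mul_assoc (w : G), e']
          _ = (h * z * h⁻¹) * ((h * z * h⁻¹) * ((z : G) * w)) := by
              rw [← mul_assoc (w : G), hNc _ w.2 _ z.2, hNc _ (mul_mem z.2 w.2) _ (hN.conj_mem _ z.2 h)]
          _ = (z : G) * w := by rw [← mul_assoc, hN2 _ (hN.conj_mem _ z.2 h), one_mul]
      · exact (inv_mul_eq_one.1 e1).symm
    obtain ⟨⟨w, hw⟩, hwv⟩ := (Finite.injective_iff_surjective.1 hinj) ⟨v, hv⟩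
    have hwv' : w * (h * w * h⁻¹) = v := congrArg Subtype.val hwv
    refine hx w (Subgroup.mem_pointwise_smul_iff_inv_smul_mem.2 ?_)
    rw [hH, mem_stabilizer_iff, ← map_inv, MulAut.smul_def, MulAut.conj_apply, inv_inv, ← hwv',
      show w⁻¹ * (w * (h * w * h⁻¹) * h) * w = h * (w * (h⁻¹ * h) * w) by group, inv_mul_cancel, mul_one,
      hN2 w hw, mul_one]
    exact hh
  refine Or.inr ⟨H, ⟨hb, fun e => hne ?_, ?_⟩, fun x hx => ?_, fun x hx y hy => hNc _ (hker x hx) _ (hker y hy)⟩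
  · rw [eq_bot_iff]
    intro v hv
    exact Subgroup.mem_bot.2 (hfree v hv (mem_stabilizer_iff.1 (show v ∈ H from e ▸ Subgroup.mem_top v)))
  · intro g hg
    rw [eq_bot_iff]
    rintro x ⟨hx1, hx2⟩
    obtain ⟨v, hv, k, hk, rfl⟩ := hdec g
    have hv1 : v ≠ 1 := fun e => hg (by rw [e, one_mul]; exact hk)
    have hx3 : (v * k)⁻¹ * x * (v * k) ∈ H := by
      have := Subgroup.mem_pointwise_smul_iff_inv_smul_mem.1 hx2
      simpa [MulAut.smul_def, ← map_inv, mul_assoc] using this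
    have hx4 : v⁻¹ * x * v ∈ H := by
      have h := mul_mem (mul_mem hk hx3) (inv_mem hk)
      rwa [show k * ((v * k)⁻¹ * x * (v * k)) * k⁻¹ = v⁻¹ * x * v by group] at h
    have hm : v⁻¹ * (x * v * x⁻¹) ∈ N := mul_mem (inv_mem hv) (hN.conj_mem v hv x)
    have hmH : v⁻¹ * (x * v * x⁻¹) ∈ H := by
      rw [show v⁻¹ * (x * v * x⁻¹) = v⁻¹ * x * v * x⁻¹ by group]
      exact mul_mem hx4 (inv_mem hx1)
    have he := hfree _ hm hmH
    rw [inv_mul_eq_one, eq_comm, mul_inv_eq_iff_eq_mul] at he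
    exact Subgroup.mem_bot.2 (hfix x hx1 v hv he hv1)
  · rw [pow_two]; exact hN2 x (hker x hx)

/-- **All derangements involutions.** -/
theorem main [FaithfulSMul G Ω] [IsPretransitive G Ω] (hinv : ∀ g : G, (∀ ω : Ω, g • ω ≠ ω) → g * g = 1) :
    (IsMulCommutative G ∧ ∀ g : G, g ^ 2 = 1) ∨
    (∃ H : Subgroup G, Cfsg.IsFrobeniusComplement H ∧
      (∀ x ∈ Cfsg.frobeniusKernel H, x ^ 2 = 1) ∧
      ∀ x ∈ Cfsg.frobeniusKernel H, ∀ y ∈ Cfsg.frobeniusKernel H, x * y = y * x) := by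
  classical
  rcases subsingleton_or_nontrivial Ω with hs | hnt
  · exact Or.inl (elementary_comm fun g => FaithfulSMul.eq_of_smul_eq_smul (α := Ω) fun ω => Subsingleton.elim _ _)
  obtain ⟨a⟩ : Nonempty Ω := inferInstance
  set H := stabilizer G a with hH
  have hHt : H ≠ ⊤ := by
    obtain ⟨b, hb⟩ := exists_ne a
    intro e
    obtain ⟨g, hg⟩ := MulAction.exists_smul_eq G a b
    exact hb (hg.symm.trans (mem_stabilizer_iff.1 (show g ∈ H from e ▸ Subgroup.mem_top g)))
  haveI : Finite (Subgroup G) := Finite.of_injective _ SetLike.coe_injective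
  haveI : IsCoatomic (Subgroup G) := inferInstance
  obtain ⟨M, hM, hHM⟩ := (eq_top_or_exists_le_coatom H).resolve_left hHt
  set φ : G →* Equiv.Perm (G ⧸ M) := MulAction.toPermHom G (G ⧸ M)
  haveI : Nontrivial (G ⧸ M) := by
    rw [← Finite.one_lt_card_iff_nontrivial]
    exact Subgroup.one_lt_index_of_ne_top hM.1
  have hsmul : ∀ (g : G) (x : G ⧸ M), (φ.rangeRestrict g) • x = g • x := fun g x => rfl
  haveI : IsPretransitive φ.range (G ⧸ M) := ⟨fun x y => by
    obtain ⟨g, hg⟩ := MulAction.exists_smul_eq G x y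
    exact ⟨φ.rangeRestrict g, (hsmul g x).trans hg⟩⟩
  haveI := Fintype.ofFinite (G ⧸ M)
  haveI := Fintype.ofFinite φ.range
  have hlift : ∀ g : G, (∀ x : G ⧸ M, g • x ≠ x) → g * g = 1 := by
    intro g hg
    refine hinv g fun ω e => ?_
    obtain ⟨c, rfl⟩ := MulAction.exists_smul_eq G a ω
    refine hg (QuotientGroup.mk c) ?_
    rw [MulAction.Quotient.smul_mk, QuotientGroup.eq]
    refine hHM ?_
    rw [hH, mem_stabilizer_iff, smul_eq_mul, mul_inv_rev, mul_smul, mul_smul, inv_smul_eq_iff, inv_smul_eq_iff, e]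
  obtain ⟨V, hVn, hV2, hVc, hVt, hVf⟩ := exists_regular (G := φ.range) (Ω := G ⧸ M) (fun g hg => by
    obtain ⟨x, rfl⟩ := φ.rangeRestrict_surjective g
    rw [← map_mul, hlift x fun y => by rw [← hsmul]; exact mem_der.1 hg y, map_one]) (fun x => by
    have hcomap : (stabilizer φ.range x).comap φ.rangeRestrict = stabilizer G x := rfl
    obtain ⟨c, rfl⟩ := QuotientGroup.mk_surjective x
    have hst : stabilizer G (QuotientGroup.mk c : G ⧸ M) = M.comap (MulAut.conj c⁻¹).toMonoidHom := by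
      ext g
      rw [mem_stabilizer_iff, MulAction.Quotient.smul_mk, Subgroup.mem_comap, eq_comm, QuotientGroup.eq,
        MulEquiv.coe_toMonoidHom, MulAut.conj_apply, inv_inv, smul_eq_mul, mul_assoc]
    have hiso : IsCoatom (M.comap (MulAut.conj c⁻¹).toMonoidHom) :=
      (OrderIso.isCoatom_iff ((MulAut.conj c⁻¹).comapSubgroup) M).2 hM
    constructor
    · intro e
      rw [e, Subgroup.comap_top] at hcomap
      exact hiso.1 (hst ▸ hcomap.symm)
    · intro J hJ
      have hlt : stabilizer G (QuotientGroup.mk c : G ⧸ M) < J.comap φ.rangeRestrict := by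
        rw [← hcomap]
        exact (Subgroup.comap_lt_comap_of_surjective φ.rangeRestrict_surjective).2 hJ
      have := hiso.2 _ (hst ▸ hlt)
      rw [← Subgroup.map_comap_eq_self_of_surjective φ.rangeRestrict_surjective J, this,
        Subgroup.map_top_of_surjective _ φ.rangeRestrict_surjective])
  set N : Subgroup G := V.comap φ.rangeRestrict with hNdef
  haveI : N.Normal := hVn.comap _
  set K : Subgroup G := φ.rangeRestrict.ker with hKdef
  have hKM : K ≤ M := fun k hk => by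
    have h : φ.rangeRestrict k • (QuotientGroup.mk 1 : G ⧸ M) = QuotientGroup.mk 1 := by
      rw [MonoidHom.mem_ker.1 hk, one_smul]
    rw [hsmul, MulAction.Quotient.smul_mk, QuotientGroup.eq] at h
    simpa using M.inv_mem h
  have hD : ∀ x ∈ N, x ∉ K → ∀ ω : Ω, x • ω ≠ ω := by
    intro x hx hxK ω e
    refine hxK (MonoidHom.mem_ker.2 ?_)
    obtain ⟨c, rfl⟩ := MulAction.exists_smul_eq G a ω
    refine hVf _ hx (QuotientGroup.mk c) ?_
    rw [hsmul, MulAction.Quotient.smul_mk, QuotientGroup.eq]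
    refine hHM ?_
    rw [hH, mem_stabilizer_iff, smul_eq_mul, mul_inv_rev, mul_smul, mul_smul, inv_smul_eq_iff, inv_smul_eq_iff, e]
  have hD2 : ∀ x ∈ N, x ∉ K → x * x = 1 := fun x hx hxK => hinv x (hD x hx hxK)
  have hKN : K ≤ N := fun k hk => by
    show φ.rangeRestrict k ∈ V
    rw [MonoidHom.mem_ker.1 hk]; exact one_mem _
  have hconj : ∀ g ∈ N, g ∉ K → ∀ k ∈ K, g * k * g⁻¹ = k⁻¹ := by
    intro g hg hgK k hk
    have h1 := hD2 (g * k) (mul_mem hg (hKN hk)) fun h => hgK ((K.mul_mem_cancel_right hk).1 h)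
    rw [inv_eq_of_mul_eq_one_left (hD2 g hg hgK)]
    refine eq_inv_of_mul_eq_one_left ?_
    rw [← h1]; group
  have hNM : ∀ g : G, ∃ n ∈ N, n⁻¹ * g ∈ M := by
    intro g
    obtain ⟨v, hv, e⟩ := hVt (QuotientGroup.mk 1) (QuotientGroup.mk g)
    obtain ⟨n, rfl⟩ := φ.rangeRestrict_surjective v
    refine ⟨n, hv, ?_⟩
    rw [hsmul, MulAction.Quotient.smul_mk, QuotientGroup.eq] at e
    simpa using e
  by_cases hthree : ∃ g ∈ N, ∃ g' ∈ N, g ∉ K ∧ g' ∉ K ∧ g * g' ∉ K
  swap
  · push Not at hthree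
    obtain ⟨g₀, hg₀⟩ : ∃ g : G, g ∉ M := by
      by_contra h
      push Not at h
      exact hM.1 (eq_top_iff.2 fun g _ => h g)
    obtain ⟨n₀, hn₀, hn₀M⟩ := hNM g₀
    have hn₀K : n₀ ∉ K := fun h => hg₀ (by
      have := mul_mem (hKM h) hn₀M
      rwa [mul_inv_cancel_left] at this)
    have hcov : ∀ v ∈ N, v ∈ K ∨ n₀ * v ∈ K := fun v hv =>
      or_iff_not_imp_left.2 fun h => hthree n₀ hn₀ v hv hn₀K h
    have hn₀i : n₀⁻¹ = n₀ := inv_eq_of_mul_eq_one_left (hD2 n₀ hn₀ hn₀K)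
    have hMK : ∀ m ∈ M, m ∈ K := by
      intro m hm
      refine MonoidHom.mem_ker.2 (FaithfulSMul.eq_of_smul_eq_smul (α := G ⧸ M) fun x => ?_)
      rw [one_smul]
      have hone : φ.rangeRestrict m • (QuotientGroup.mk 1 : G ⧸ M) = QuotientGroup.mk 1 := by
        rw [hsmul, MulAction.Quotient.smul_mk, QuotientGroup.eq]
        simpa using M.inv_mem hm
      obtain ⟨v, hv, rfl⟩ := hVt (QuotientGroup.mk 1) x
      obtain ⟨n, rfl⟩ := φ.rangeRestrict_surjective v
      rcases hcov n hv with h | h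
      · rw [MonoidHom.mem_ker.1 h, one_smul, hone]
      · have e : φ.rangeRestrict n = φ.rangeRestrict n₀ := by
          have h' := MonoidHom.mem_ker.1 h
          rw [map_mul, mul_eq_one_iff_inv_eq, ← map_inv, hn₀i] at h'
          exact h'.symm
        rw [e]
        obtain ⟨z, hz, hze⟩ := hVt (QuotientGroup.mk 1) (φ.rangeRestrict m • φ.rangeRestrict n₀ • QuotientGroup.mk 1)
        obtain ⟨z, rfl⟩ := φ.rangeRestrict_surjective z
        rcases hcov z hz with h1 | h1
        · exfalso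
          rw [MonoidHom.mem_ker.1 h1, one_smul] at hze
          have := smul_left_cancel _ (hone.trans hze)
          rw [hsmul, MulAction.Quotient.smul_mk, QuotientGroup.eq] at this
          have hn : n₀ ∈ M := by simpa using this
          exact hg₀ (by have := mul_mem hn hn₀M; rwa [mul_inv_cancel_left] at this)
        · have e1 : φ.rangeRestrict z = φ.rangeRestrict n₀ := by
            have h' := MonoidHom.mem_ker.1 h1
            rw [map_mul, mul_eq_one_iff_inv_eq, ← map_inv, hn₀i] at h'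
            exact h'.symm
          rw [← hze, e1]
    have hall : ∀ g : G, g ∈ K ∨ n₀ * g ∈ K := by
      intro g
      obtain ⟨n, hn, hm⟩ := hNM g
      have hgN : g ∈ N := by
        have := mul_mem hn (hKN (hMK _ hm))
        rwa [mul_inv_cancel_left] at this
      exact hcov g hgN
    have hHone : ∀ k ∈ H, k = 1 := by
      intro k hk
      have hkK : k ∈ K := hMK k (hHM hk)
      refine FaithfulSMul.eq_of_smul_eq_smul (α := Ω) fun ω => ?_
      obtain ⟨g, rfl⟩ := MulAction.exists_smul_eq G a ω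
      rw [one_smul, ← mul_smul]
      have hKc : ∀ x ∈ K, ∀ y ∈ K, x * y = y * x := fun x hx y hy => by
        have h := hconj n₀ hn₀ hn₀K (x * y) (mul_mem hx hy)
        rw [← conj_mul, hconj n₀ hn₀ hn₀K x hx, hconj n₀ hn₀ hn₀K y hy, mul_inv_rev] at h
        have h' := congrArg (·⁻¹) h
        simpa using h'.symm
      rcases hall g with h | h
      · rw [hKc k hkK g h, mul_smul, show k • a = a from hk]
      · have e : g = n₀ * (n₀ * g) := by rw [← mul_assoc, hD2 n₀ hn₀ hn₀K, one_mul]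
        have h2 : n₀⁻¹ * k * n₀ = k⁻¹ := by
          have := hconj n₀ hn₀ hn₀K k hkK
          rwa [hn₀i] at this ⊢
        rw [e, show k * (n₀ * (n₀ * g)) = n₀ * ((n₀⁻¹ * k * n₀) * (n₀ * g)) by group, h2,
          hKc _ (inv_mem hkK) _ h, ← mul_assoc, mul_smul _ k⁻¹, inv_smul_eq_iff.2 (show a = k • a from hk.symm)]
    refine Or.inl (elementary_comm fun g => ?_)
    by_cases h1 : g = 1
    · rw [h1, one_pow]
    rw [pow_two]
    refine hinv g fun ω e => h1 ?_
    obtain ⟨c, rfl⟩ := MulAction.exists_smul_eq G a ω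
    have : c⁻¹ * g * c = 1 := hHone _ (by rw [hH, mem_stabilizer_iff, mul_smul, mul_smul, e, inv_smul_smul])
    calc g = c * (c⁻¹ * g * c) * c⁻¹ := by group
      _ = 1 := by rw [this]; group
  obtain ⟨g₁, hg₁, g₂, hg₂, h1K, h2K, h12K⟩ := hthree
  have hN2 : ∀ x ∈ N, x * x = 1 := by
    intro x hx
    by_cases hxK : x ∈ K
    · have e1 := hconj (g₁ * g₂) (mul_mem hg₁ hg₂) h12K x hxK
      have e2 : g₁ * g₂ * x * (g₁ * g₂)⁻¹ = x := by
        rw [mul_inv_rev, show g₁ * g₂ * x * (g₂⁻¹ * g₁⁻¹) = g₁ * (g₂ * x * g₂⁻¹) * g₁⁻¹ by group,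
          hconj g₂ hg₂ h2K x hxK, hconj g₁ hg₁ h1K _ (inv_mem hxK), inv_inv]
      rw [e2] at e1
      nth_rw 1 [e1]
      exact inv_mul_cancel x
    · exact hD2 x hx hxK
  have hNc : ∀ v ∈ N, ∀ w ∈ N, v * w = w * v := fun v hv w hw => by
    have e := inv_eq_of_mul_eq_one_left (hN2 _ (mul_mem hv hw))
    rw [mul_inv_rev, inv_eq_of_mul_eq_one_left (hN2 v hv), inv_eq_of_mul_eq_one_left (hN2 w hw)] at e
    exact e.symm
  have hNH : N ⊔ H = ⊤ := by
    by_contra hJ
    obtain ⟨x, hx⟩ := exists_outside hJ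
    have hder : ∀ n ∈ N, x * n * (x * n) = 1 := fun n hn => hinv _ fun ω e => by
      obtain ⟨c, rfl⟩ := MulAction.exists_smul_eq G a ω
      refine hx c⁻¹ ?_
      have h1 : c⁻¹ * (x * n) * c ∈ H := by
        rw [hH, mem_stabilizer_iff, mul_smul, mul_smul, e, inv_smul_smul]
      have h2 : c⁻¹ * n⁻¹ * c ∈ N := by simpa using ‹N.Normal›.conj_mem _ (N.inv_mem hn) c⁻¹
      have h3 := mul_mem (Subgroup.mem_sup_right h1 : c⁻¹ * (x * n) * c ∈ N ⊔ H) (Subgroup.mem_sup_left h2)
      rw [inv_inv]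
      rwa [show c⁻¹ * (x * n) * c * (c⁻¹ * n⁻¹ * c) = c⁻¹ * x * c by group] at h3
    have hx2 : x * x = 1 := by simpa using hder 1 (one_mem _)
    have hxc : ∀ n ∈ N, x * n = n * x := fun n hn => by
      have e : (x * n)⁻¹ = x * n := inv_eq_of_mul_eq_one_left (hder n hn)
      rw [mul_inv_rev, inv_eq_of_mul_eq_one_left (hN2 n hn), inv_eq_of_mul_eq_one_left hx2] at e
      exact e.symm
    obtain ⟨v, hv, e⟩ := hVt (QuotientGroup.mk 1) (φ.rangeRestrict x • QuotientGroup.mk 1)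
    obtain ⟨n, rfl⟩ := φ.rangeRestrict_surjective v
    have heq : φ.rangeRestrict n = φ.rangeRestrict x := FaithfulSMul.eq_of_smul_eq_smul (α := G ⧸ M) fun z => by
      obtain ⟨w, hw, rfl⟩ := hVt (QuotientGroup.mk 1) z
      obtain ⟨m, rfl⟩ := φ.rangeRestrict_surjective w
      rw [← mul_smul, ← mul_smul, ← map_mul, ← map_mul, hxc m hw, hNc n hv m hw, map_mul, map_mul, mul_smul,
        mul_smul, e]
    have hxN : x ∈ N := by
      show φ.rangeRestrict x ∈ V
      rw [← heq]; exact hv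
    exact hx 1 (by rw [one_mul, inv_one, mul_one]; exact Subgroup.mem_sup_left hxN)
  have htr : ∀ ω : Ω, ∃ v ∈ N, v • a = ω := fun ω => by
    obtain ⟨g, rfl⟩ := MulAction.exists_smul_eq G a ω
    obtain ⟨v, hv, k, hk, rfl⟩ := Subgroup.mem_sup_of_normal_left.1 (hNH ▸ Subgroup.mem_top g : g ∈ N ⊔ H)
    exact ⟨v, hv, by rw [mul_smul, show k • a = a from hk]⟩
  refine of_regular hinv a N hN2 hNc htr (fun v hv e => ?_) fun e => h1K ?_
  · refine FaithfulSMul.eq_of_smul_eq_smul (α := Ω) fun ω => ?_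
    obtain ⟨w, hw, rfl⟩ := htr ω
    rw [one_smul, ← mul_smul, hNc v hv w hw, mul_smul, e]
  · rw [show g₁ = 1 from Subgroup.mem_bot.1 (e ▸ hg₁)]; exact one_mem _

end Cfsg.Agent.DerangeInvol
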