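import Cfsg.Agent.Lib.DerangeInvol.Count
import Cfsg.Agent.Lib.Involutions.BaerSuzuki
import Mathlib.GroupTheory.PGroup

/-!
A faithful primitive group whose derangements are involutions has a regular normal elementary abelian 2-subgroup:
some derangement commutes with more than half of them, so lies in the largest normal 2-subgroup by Baer–Suzuki.
-/

set_option autoImplicit false
set_option linter.unusedSectionVars false
set_option linter.style.haveILetI false

namespace Cfsg.Agent.DerangeInvol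

open MulAction

variable {G Ω : Type*} [Group G] [Fintype G] [MulAction G Ω] [Fintype Ω] [DecidableEq Ω] [DecidableEq G]
  [IsPretransitive G Ω] [FaithfulSMul G Ω] [Nontrivial Ω]

theorem der_conj {u : G} (hu : u ∈ der G Ω) (g : G) : g * u * g⁻¹ ∈ der G Ω := by
  rw [mem_der] at hu ⊢
  intro ω h
  rw [mul_smul, mul_smul] at h
  exact hu (g⁻¹ • ω) (by rw [← inv_smul_smul g (u • g⁻¹ • ω), h])

variable (hD : ∀ g ∈ der G Ω, g * g = 1)

include hD in
/-- An element commuting with a derangement is a 2-element. -/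
theorem orderOf_comm {t x : G} (ht : t ∈ der G Ω) (hx : Commute t x) : ∃ k, orderOf x = 2 ^ k := by
  obtain ⟨k, m, hm, e⟩ := Nat.exists_eq_two_pow_mul_odd (orderOf_pos x).ne'
  have hy1 : (x ^ 2 ^ k) ^ m = 1 := by rw [← pow_mul, ← e, pow_orderOf_eq_one]
  have htm : t ^ m = t := by
    obtain ⟨j, rfl⟩ := hm
    rw [pow_succ, pow_mul, pow_two, hD t ht, one_pow, one_mul]
  have hz : t * x ^ 2 ^ k ∈ der G Ω := mem_der.2 fun ω h => by
    refine mem_der.1 ht ω ?_
    have h2 : (t * x ^ 2 ^ k) ^ m • ω = ω := by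
      exact (stabilizer G ω).pow_mem (mem_stabilizer_iff.2 h) m
    rwa [(hx.pow_right _).mul_pow, hy1, mul_one, htm] at h2
  have hy2 : (x ^ 2 ^ k) * (x ^ 2 ^ k) = 1 := by
    have h := hD _ hz
    rw [show t * x ^ 2 ^ k * (t * x ^ 2 ^ k) = t * t * (x ^ 2 ^ k * x ^ 2 ^ k) by
      rw [mul_assoc, ← mul_assoc (x ^ 2 ^ k), ← (hx.pow_right _).eq, mul_assoc, ← mul_assoc],
      hD t ht, one_mul] at h
    exact h
  obtain ⟨j, rfl⟩ := hm
  rw [pow_succ, pow_mul, pow_two, hy2, one_pow, one_mul] at hy1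
  obtain ⟨i, -, hi⟩ := (Nat.dvd_prime_pow Nat.prime_two).1 (orderOf_dvd_of_pow_eq_one hy1)
  exact ⟨i, hi⟩

theorem smul_inv_eq {y : G} {a : Ω} (h : y • a = a) : y⁻¹ • a = a := inv_smul_eq_iff.2 h.symm

include hD in
/-- The bound on the ways to write a non-derangement as a product of two derangements. -/
theorem pair_bound (hprim : ∀ a : Ω, IsCoatom (stabilizer G a)) {y : G} (hy : y ∉ der G Ω) (hy1 : y ≠ 1) :
    (2 * ((der G Ω).filter fun t => t * y ∈ der G Ω).card : ℤ) ≤
      (der G Ω).card * ((fx Ω y : ℤ) - 1) := by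
  classical
  set A := (der G Ω).filter fun t => t * y ∈ der G Ω with hAdef
  have hF1 : 1 ≤ fx Ω y := Nat.one_le_iff_ne_zero.2 fun e => hy (fx_eq_zero.1 e)
  rcases A.eq_empty_or_nonempty with h0 | ⟨t0, ht0⟩
  · rw [h0, Finset.card_empty]
    push_cast
    nlinarith
  have hinv : ∀ t ∈ A, t ∈ der G Ω ∧ t * y * t = y⁻¹ := fun t ht => by
    obtain ⟨h1, h2⟩ := Finset.mem_filter.1 ht
    refine ⟨h1, eq_inv_of_mul_eq_one_left ?_⟩
    rw [mul_assoc]
    exact hD _ h2
  obtain ⟨ht0d, ht0y⟩ := hinv t0 ht0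
  obtain ⟨a, ha⟩ : ∃ a : Ω, y • a = a := by
    rw [mem_der] at hy
    push Not at hy
    exact hy
  have ht2 : t0 * t0 = 1 := hD _ ht0d
  have hb : y • (t0 • a) = t0 • a := by
    rw [← mul_smul, show y * t0 = t0 * (t0 * y * t0) by simp [← mul_assoc, ht2], mul_smul, ht0y, smul_inv_eq ha]
  have hba : t0 • a ≠ a := mem_der.1 ht0d a
  set C : Subgroup G := Subgroup.centralizer ({y} : Set G) with hC
  set H : Subgroup G := stabilizer G a with hH
  set F : Finset Ω := Finset.univ.filter fun ω => y • ω = ω with hF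
  have hπ2 : 2 ≤ fx Ω y := by
    show 2 ≤ F.card
    exact Finset.one_lt_card.2 ⟨a, by simp [hF, ha], t0 • a, by simp [hF, hb], hba.symm⟩
  set P : Finset G := A.image fun t => t * t0 with hP
  have hPcard : P.card = A.card := Finset.card_image_of_injective _ fun u v e => mul_right_cancel e
  set Cf : Finset G := Finset.univ.filter fun g => g ∈ C with hCf
  have hCcard : Nat.card C = Cf.card := by
    rw [Nat.card_eq_fintype_card, Fintype.card_subtype]
  have hPC : P ⊆ Cf := fun g hg => by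
    obtain ⟨t, ht, rfl⟩ := Finset.mem_image.1 hg
    obtain ⟨htd, hty⟩ := hinv t ht
    refine Finset.mem_filter.2 ⟨Finset.mem_univ _, ?_⟩
    rw [hC, Subgroup.mem_centralizer_singleton_iff]
    have e1 : t0 * y = y⁻¹ * t0 := by rw [← ht0y, mul_assoc (t0 * y), ht2, mul_one]
    have e2 : t * y⁻¹ = y * t := by
      rw [← hty, ← mul_assoc, ← mul_assoc, hD t htd, one_mul]
    rw [mul_assoc, e1, ← mul_assoc, e2, mul_assoc]
  have hq := der_bound (G := G) a
  by_cases hHC : H ≤ C
  · have hCH : C = H := by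
      refine ((hprim a).le_iff.1 hHC).resolve_left fun hT => hy1 ?_
      refine FaithfulSMul.eq_of_smul_eq_smul (α := Ω) fun ω => ?_
      obtain ⟨g, rfl⟩ := MulAction.exists_smul_eq G a ω
      have hg : g ∈ C := hT ▸ Subgroup.mem_top g
      rw [hC, Subgroup.mem_centralizer_singleton_iff] at hg
      rw [one_smul, ← mul_smul, ← hg, mul_smul, ha]
    have hR : 3 ≤ pairOrbits G Ω := by
      obtain ⟨c, hc⟩ : ∃ c : Ω, y • c ≠ c := by
        by_contra h
        push Not at h
        exact hy1 (FaithfulSMul.eq_of_smul_eq_smul (α := Ω) fun ω => by rw [h ω, one_smul])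
      refine three_le_pairOrbits (c := c) hba (fun e => hc (by rw [e, ha])) fun g hg e => hc ?_
      have hgC : g ∈ C := hHC hg
      rw [hC, Subgroup.mem_centralizer_singleton_iff] at hgC
      rw [← e, ← mul_smul, ← hgC, mul_smul, hb]
    have h1 : A.card ≤ Nat.card H := by rw [← hPcard, ← hCH, hCcard]; exact Finset.card_le_card hPC
    have h2 : 2 * A.card ≤ (der G Ω).card := by
      refine le_trans ?_ hq
      exact Nat.mul_le_mul (by omega) h1
    have h2' : (2 * A.card : ℤ) ≤ (der G Ω).card := by exact_mod_cast h2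
    have h3 : (1 : ℤ) ≤ (fx Ω y : ℤ) - 1 := by omega
    nlinarith
  · set K : Subgroup G := C ⊓ H with hK
    have hKH : 2 * Nat.card K ≤ Nat.card H := by
      obtain ⟨d, hd⟩ := Subgroup.card_dvd_of_le (inf_le_right : K ≤ H)
      rcases Nat.lt_or_ge d 2 with h | h
      · exfalso
        interval_cases d
        · exact absurd (hd.trans (mul_zero _)) Nat.card_pos.ne'
        · rw [mul_one] at hd
          exact hHC ((Subgroup.eq_of_le_of_card_ge inf_le_right hd.le).ge.trans inf_le_left)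
      · rw [hd, mul_comm (Nat.card K)]; exact Nat.mul_le_mul_right _ h
    have hle : 2 * Nat.card K ≤ (der G Ω).card := by
      refine le_trans (hKH.trans ?_) hq
      have := two_le_pairOrbits (G := G) (Ω := Ω)
      exact Nat.le_mul_of_pos_left _ (by omega)
    set O : Finset Ω := Cf.image fun c => c • a with hO
    have hOF : O ⊆ F := fun ω hω => by
      obtain ⟨c, hc, rfl⟩ := Finset.mem_image.1 hω
      have hc' := (Finset.mem_filter.1 hc).2
      rw [hC, Subgroup.mem_centralizer_singleton_iff] at hc'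
      simp only [hF, Finset.mem_filter, Finset.mem_univ, true_and]
      rw [← mul_smul, ← hc', mul_smul, ha]
    have hfib : ∀ ω ∈ O, (Cf.filter fun c => c • a = ω).card = Nat.card K := by
      intro ω hω
      obtain ⟨c0, hc0, rfl⟩ := Finset.mem_image.1 hω
      have hc0' := (Finset.mem_filter.1 hc0).2
      rw [show Nat.card K = (Finset.univ.filter fun g => g ∈ K).card by
        rw [Nat.card_eq_fintype_card, Fintype.card_subtype]]
      refine Finset.card_bij' (fun c _ => c0⁻¹ * c) (fun k _ => c0 * k) ?_ ?_ (by simp) (by simp)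
      · intro c hc
        obtain ⟨hc1, hc2⟩ := Finset.mem_filter.1 hc
        refine Finset.mem_filter.2 ⟨Finset.mem_univ _, ?_, ?_⟩
        · show c0⁻¹ * c ∈ C
          exact C.mul_mem (C.inv_mem hc0') (Finset.mem_filter.1 hc1).2
        · show (c0⁻¹ * c) • a = a
          rw [mul_smul, hc2, inv_smul_smul]
      · intro k hk
        obtain ⟨-, hk1, hk2⟩ := Finset.mem_filter.1 hk
        refine Finset.mem_filter.2 ⟨Finset.mem_filter.2 ⟨Finset.mem_univ _, mul_mem hc0' hk1⟩, ?_⟩
        rw [mul_smul, show k • a = a from hk2]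
    have hCO : Cf.card = O.card * Nat.card K := by
      rw [Finset.card_eq_sum_card_image (fun c : G => c • a) Cf, Finset.sum_const_nat hfib]
    have hbound : A.card ≤ (fx Ω y - 1) * Nat.card K := by
      by_cases hbO : t0 • a ∈ O
      · obtain ⟨c0, hc0, hc0a⟩ := Finset.mem_image.1 hbO
        set B := Cf.filter fun c => c • t0 • a = a
        have hB : Nat.card K ≤ B.card := by
          rw [← hfib _ hbO]
          refine Finset.card_le_card_of_injOn (fun c => c⁻¹) ?_ inv_injective.injOn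
          intro c hc
          obtain ⟨hc1, hc2⟩ := Finset.mem_filter.1 hc
          refine Finset.mem_filter.2 ⟨Finset.mem_filter.2 ⟨Finset.mem_univ _, inv_mem (Finset.mem_filter.1 hc1).2⟩, ?_⟩
          rw [← hc2, inv_smul_smul]
        have hdisj : P ⊆ Cf \ B := fun g hg => by
          refine Finset.mem_sdiff.2 ⟨hPC hg, fun hgB => ?_⟩
          obtain ⟨t, ht, rfl⟩ := Finset.mem_image.1 hg
          have h2 := (Finset.mem_filter.1 hgB).2
          rw [← mul_smul, mul_assoc, ht2, mul_one] at h2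
          exact mem_der.1 (hinv t ht).1 a h2
        have h1 := Finset.card_le_card hdisj
        rw [hPcard, Finset.card_sdiff_of_subset (Finset.filter_subset _ _), hCO] at h1
        have h2 : O.card ≤ fx Ω y := Finset.card_le_card hOF
        calc A.card ≤ O.card * Nat.card K - Nat.card K := h1.trans (Nat.sub_le_sub_left hB _)
          _ = (O.card - 1) * Nat.card K := by rw [Nat.sub_one_mul]
          _ ≤ _ := Nat.mul_le_mul_right _ (by omega)
      · have h2 : O.card < fx Ω y := Finset.card_lt_card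
          ⟨hOF, fun h => hbO (h (by simp [hb]))⟩
        calc A.card ≤ Cf.card := by rw [← hPcard]; exact Finset.card_le_card hPC
          _ = O.card * Nat.card K := hCO
          _ ≤ _ := Nat.mul_le_mul_right _ (by omega)
    have h5 : 2 * A.card ≤ (der G Ω).card * (fx Ω y - 1) := by
      calc 2 * A.card ≤ 2 * ((fx Ω y - 1) * Nat.card K) := Nat.mul_le_mul_left _ hbound
        _ = (2 * Nat.card K) * (fx Ω y - 1) := by ring
        _ ≤ _ := Nat.mul_le_mul_right _ hle
    have h6 : ((2 * A.card : ℕ) : ℤ) ≤ (((der G Ω).card * (fx Ω y - 1) : ℕ) : ℤ) := by exact_mod_cast h5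
    push_cast [Nat.cast_sub (show 1 ≤ fx Ω y by omega)] at h6
    exact h6

include hD in
/-- A derangement commutes with more than half of the derangements. -/
theorem exists_half (hprim : ∀ a : Ω, IsCoatom (stabilizer G a)) :
    ∃ t ∈ der G Ω, (der G Ω).card < 2 * ((der G Ω).filter fun u => t * u = u * t).card := by
  classical
  by_contra hcon
  push Not at hcon
  set D := der G Ω
  set q := D.card
  set Y := Finset.univ.filter fun y : G => y ∉ D ∧ y ≠ 1 with hY
  obtain ⟨d0, hd0⟩ := exists_der (G := G) (Ω := Ω)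
  have hq : 0 < q := Finset.card_pos.2 ⟨d0, hd0⟩
  have key : ∀ t ∈ D, q ≤ (D.filter fun u => t * u = u * t).card + (Y.filter fun y => t * y ∈ D).card := by
    intro t ht
    rw [show q = (D.filter fun u => t * u = u * t).card + (D.filter fun u => ¬ (t * u = u * t)).card from
      (Finset.card_filter_add_card_filter_not _).symm]
    refine Nat.add_le_add_left ?_ _
    refine Finset.card_le_card_of_injOn (fun u => t * u) ?_ (mul_right_injective t).injOn
    intro u hu
    obtain ⟨hu1, hu2⟩ := Finset.mem_filter.1 hu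
    have h2 : t * (t * u) = u := by rw [← mul_assoc, hD t ht, one_mul]
    refine Finset.mem_filter.2 ⟨Finset.mem_filter.2 ⟨Finset.mem_univ _, fun h => hu2 ?_, fun h => hu2 ?_⟩,
      h2.symm ▸ hu1⟩
    · have h4 := hD _ h
      have e : (t * u)⁻¹ = t * u := inv_eq_of_mul_eq_one_left h4
      rw [mul_inv_rev, inv_eq_of_mul_eq_one_left (hD t ht), inv_eq_of_mul_eq_one_left (hD u hu1)] at e
      exact e.symm
    · have : t = u := by
        calc t = t * (t * u) := by rw [show t * u = 1 from h, mul_one]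
          _ = u := h2
      exact this ▸ rfl
  have hswap : (∑ t ∈ D, (Y.filter fun y => t * y ∈ D).card) = ∑ y ∈ Y, (D.filter fun t => t * y ∈ D).card := by
    simp only [Finset.card_filter]
    exact Finset.sum_comm
  have h1 : (2 : ℤ) * (∑ y ∈ Y, (D.filter fun t => t * y ∈ D).card : ℕ) ≤
      q * ((q : ℤ) - (Fintype.card Ω - 1)) := by
    rw [← sum_rest (G := G) (Ω := Ω), Finset.mul_sum, ← hY]
    push_cast
    rw [Finset.mul_sum]
    refine Finset.sum_le_sum fun y hy => ?_
    obtain ⟨-, hy1, hy2⟩ := Finset.mem_filter.1 hy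
    exact pair_bound hD hprim hy1 hy2
  have h2 : q * q ≤ ∑ t ∈ D, ((D.filter fun u => t * u = u * t).card + (Y.filter fun y => t * y ∈ D).card) :=
    calc q * q = ∑ _t ∈ D, q := by rw [Finset.sum_const, smul_eq_mul]
      _ ≤ _ := Finset.sum_le_sum key
  rw [Finset.sum_add_distrib, hswap] at h2
  have h3 : 2 * ∑ t ∈ D, (D.filter fun u => t * u = u * t).card ≤ q * q := by
    rw [Finset.mul_sum]
    calc ∑ t ∈ D, 2 * (D.filter fun u => t * u = u * t).card ≤ ∑ _t ∈ D, q := Finset.sum_le_sum hcon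
      _ = q * q := by rw [Finset.sum_const, smul_eq_mul]
  have hn : 2 ≤ Fintype.card Ω := Fintype.one_lt_card
  have h2' : ((q * q : ℕ) : ℤ) ≤ _ := Int.ofNat_le.2 h2
  have h3' : ((2 * ∑ t ∈ D, (D.filter fun u => t * u = u * t).card : ℕ) : ℤ) ≤ ((q * q : ℕ) : ℤ) :=
    Int.ofNat_le.2 h3
  push_cast at h1 h2' h3'
  nlinarith

include hD in
/-- Some derangement lies in a normal 2-subgroup. -/
theorem exists_normal_two (hprim : ∀ a : Ω, IsCoatom (stabilizer G a)) :
    ∃ N : Subgroup G, N.Normal ∧ IsPGroup 2 N ∧ N ≠ ⊥ := by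
  classical
  haveI : Fact (Nat.Prime 2) := ⟨Nat.prime_two⟩
  obtain ⟨t, ht, hlt⟩ := exists_half hD hprim
  set D := der G Ω
  have hC2 : IsPGroup 2 (Subgroup.centralizer ({t} : Set G)) := by
    rw [IsPGroup.iff_orderOf]
    intro x
    obtain ⟨k, hk⟩ := orderOf_comm hD ht
      (show Commute t x from (Subgroup.mem_centralizer_singleton_iff.1 x.2).symm)
    exact ⟨k, by rw [← Subgroup.orderOf_coe]; exact hk⟩
  obtain ⟨S0, hS0⟩ := hC2.exists_le_sylow
  haveI : Fintype (Sylow 2 G) := Fintype.ofFinite _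
  set f : Sylow 2 G → ℕ := fun S => (D.filter fun u => u ∈ (S : Subgroup G)).card
  have hf0 : D.card < 2 * f S0 := by
    refine hlt.trans_le (Nat.mul_le_mul_left _ (Finset.card_le_card fun u hu => ?_))
    obtain ⟨h1, h2⟩ := Finset.mem_filter.1 hu
    exact Finset.mem_filter.2 ⟨h1, hS0 (Subgroup.mem_centralizer_singleton_iff.2 h2.symm)⟩
  have hf : ∀ S, D.card < 2 * f S := by
    intro S
    obtain ⟨c, rfl⟩ := MulAction.exists_smul_eq G S0 S
    refine hf0.trans_le (Nat.mul_le_mul_left _ ?_)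
    refine Finset.card_le_card_of_injOn (fun u => c * u * c⁻¹) ?_ (MulAut.conj c).injective.injOn
    intro u hu
    obtain ⟨h1, h2⟩ := Finset.mem_filter.1 hu
    refine Finset.mem_filter.2 ⟨der_conj h1 c, ?_⟩
    rw [Sylow.smul_def, Sylow.pointwise_smul_def, Subgroup.mem_pointwise_smul_iff_inv_smul_mem]
    simpa [mul_assoc] using h2
  set A : G → Finset (Sylow 2 G) := fun u => Finset.univ.filter fun S : Sylow 2 G => u ∈ (S : Subgroup G)
  obtain ⟨u, hu, hAu⟩ : ∃ u ∈ D, Fintype.card (Sylow 2 G) < 2 * (A u).card := by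
    by_contra h
    push Not at h
    have e : ∑ S : Sylow 2 G, f S = ∑ u ∈ D, (A u).card := by
      simp only [f, A, Finset.card_filter]
      exact Finset.sum_comm
    have h1 : ∑ _S : Sylow 2 G, D.card < ∑ S : Sylow 2 G, 2 * f S :=
      Finset.sum_lt_sum_of_nonempty Finset.univ_nonempty fun S _ => hf S
    have h2 : ∑ u ∈ D, 2 * (A u).card ≤ ∑ _u ∈ D, Fintype.card (Sylow 2 G) := Finset.sum_le_sum h
    rw [← Finset.mul_sum, ← e, Finset.mul_sum, Finset.sum_const, smul_eq_mul] at h2
    rw [Finset.sum_const, smul_eq_mul, Finset.card_univ, mul_comm] at h1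
    exact absurd (h1.trans_le h2) (lt_irrefl _)
  have hu1 : u ≠ 1 := fun e => mem_der.1 hu (Classical.arbitrary Ω) (by rw [e, one_smul])
  set X := Subgroup.zpowers u
  have hX : IsPGroup 2 X := by
    refine IsPGroup.of_card (n := 1) ?_
    rw [Nat.card_zpowers, pow_one, orderOf_eq_prime (by rw [pow_two]; exact hD u hu) hu1]
  obtain ⟨N, hN, hN2, hXN⟩ := BaerSuzuki.baerSuzuki X hX fun g => by
    have hcard : (A u).card ≤ (A (g * u * g⁻¹)).card := by
      refine Finset.card_le_card_of_injOn (fun S => g • S) ?_ (MulAction.injective g).injOn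
      intro S hS
      show g • S ∈ A (g * u * g⁻¹)
      refine Finset.mem_filter.2 ⟨Finset.mem_univ _, ?_⟩
      rw [Sylow.smul_def, Sylow.pointwise_smul_def, Subgroup.mem_pointwise_smul_iff_inv_smul_mem]
      simpa [mul_assoc] using (Finset.mem_filter.1 hS).2
    obtain ⟨S, hS⟩ : (A u ∩ A (g * u * g⁻¹)).Nonempty := by
      rw [← Finset.card_pos]
      have := Finset.card_union_add_card_inter (A u) (A (g * u * g⁻¹))
      have : (A u ∪ A (g * u * g⁻¹)).card ≤ Fintype.card (Sylow 2 G) := Finset.card_le_univ _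
      omega
    obtain ⟨h1, h2⟩ := Finset.mem_inter.1 hS
    refine S.2.to_le (sup_le ((Subgroup.zpowers_le).2 (Finset.mem_filter.1 h1).2) ?_)
    rw [MonoidHom.map_zpowers, Subgroup.zpowers_le]
    exact (Finset.mem_filter.1 h2).2
  exact ⟨N, hN, hN2, fun e => hu1 ((Subgroup.mem_bot).1 (e ▸ hXN (Subgroup.mem_zpowers u)))⟩

include hD in
/-- **The primitive case.** -/
theorem exists_regular (hprim : ∀ a : Ω, IsCoatom (stabilizer G a)) :
    ∃ V : Subgroup G, V.Normal ∧ (∀ v ∈ V, v * v = 1) ∧ (∀ v ∈ V, ∀ w ∈ V, v * w = w * v) ∧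
      (∀ a b : Ω, ∃ v ∈ V, v • a = b) ∧ ∀ v ∈ V, ∀ a : Ω, v • a = a → v = 1 := by
  haveI : Fact (Nat.Prime 2) := ⟨Nat.prime_two⟩
  obtain ⟨N, hN, hN2, hNb⟩ := exists_normal_two hD hprim
  let V : Subgroup G :=
    { carrier := {x | x ∈ N ∧ (∀ y ∈ N, x * y = y * x) ∧ x * x = 1}
      one_mem' := ⟨one_mem _, fun y _ => by simp, one_mul 1⟩
      mul_mem' := by
        rintro x z ⟨hx, hxc, hx2⟩ ⟨hz, hzc, hz2⟩
        refine ⟨mul_mem hx hz, fun y hy => ?_, ?_⟩
        · rw [mul_assoc, hzc y hy, ← mul_assoc, hxc y hy, mul_assoc]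
        · rw [mul_assoc, ← mul_assoc z, hzc x hx, mul_assoc x z, hz2, mul_one, hx2]
      inv_mem' := by
        rintro x ⟨hx, hxc, hx2⟩
        rw [inv_eq_of_mul_eq_one_left hx2]
        exact ⟨hx, hxc, hx2⟩ }
  have hV : V.Normal := ⟨fun x hx g => by
    obtain ⟨h1, h2, h3⟩ := hx
    refine ⟨hN.conj_mem x h1 g, fun y hy => ?_, ?_⟩
    · have h4 := h2 (g⁻¹ * y * g) (by simpa using hN.conj_mem y hy g⁻¹)
      calc g * x * g⁻¹ * y = g * (x * (g⁻¹ * y * g)) * g⁻¹ := by group
        _ = g * (g⁻¹ * y * g * x) * g⁻¹ := by rw [h4]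
        _ = y * (g * x * g⁻¹) := by group
    · rw [conj_mul, h3, mul_one, mul_inv_cancel]⟩
  have hVb : V ≠ ⊥ := by
    haveI : Nontrivial N := (Subgroup.nontrivial_iff_ne_bot N).2 hNb
    haveI := hN2.center_nontrivial
    obtain ⟨⟨z, hz⟩, hz1⟩ := exists_prime_orderOf_dvd_card' (G := Subgroup.center N) 2 (by
      obtain ⟨n, hn⟩ := IsPGroup.iff_card.1 (hN2.to_subgroup (Subgroup.center N))
      rw [hn]
      refine dvd_pow_self 2 fun e => ?_
      rw [e, pow_zero] at hn
      exact absurd hn Finite.one_lt_card.ne')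
    intro e
    have hz2 : (z : N) * z = 1 := by
      have h := pow_orderOf_eq_one (⟨z, hz⟩ : Subgroup.center N)
      rw [hz1, pow_two] at h
      exact congrArg Subtype.val h
    have hm : (z : G) ∈ V := ⟨z.2, fun y hy => congrArg Subtype.val (Subgroup.mem_center_iff.1 hz ⟨y, hy⟩).symm,
      congrArg Subtype.val hz2⟩
    rw [e, Subgroup.mem_bot] at hm
    have h1 : orderOf (⟨z, hz⟩ : Subgroup.center N) = 1 := orderOf_eq_one_iff.2 (Subtype.ext (Subtype.ext hm))
    omega
  have hcomm : ∀ v ∈ V, ∀ w ∈ V, v * w = w * v := fun v hv w hw => hv.2.1 w hw.1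
  have htrans : ∀ a b : Ω, ∃ v ∈ V, v • a = b := by
    intro a b
    haveI := hV
    have hne : ¬ V ≤ stabilizer G a := fun hle => hVb (by
      rw [eq_bot_iff]
      intro v hv
      refine Subgroup.mem_bot.2 (FaithfulSMul.eq_of_smul_eq_smul (α := Ω) fun ω => ?_)
      obtain ⟨g, rfl⟩ := MulAction.exists_smul_eq G a ω
      have h := hle (hV.conj_mem v hv g⁻¹)
      rw [mem_stabilizer_iff, inv_inv, mul_smul, mul_smul, inv_smul_eq_iff] at h
      rw [one_smul]; exact h)
    have htop : V ⊔ stabilizer G a = ⊤ :=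
      (hprim a).2 _ (lt_of_le_of_ne le_sup_right fun e => hne (le_of_le_of_eq le_sup_left e.symm))
    obtain ⟨g, rfl⟩ := MulAction.exists_smul_eq G a b
    obtain ⟨v, hv, h, hh, rfl⟩ := Subgroup.mem_sup_of_normal_left.1 (htop ▸ Subgroup.mem_top g : g ∈ V ⊔ _)
    exact ⟨v, hv, by rw [mul_smul, show h • a = a from hh]⟩
  refine ⟨V, hV, fun v hv => hv.2.2, hcomm, htrans, fun v hv a ha => ?_⟩
  refine FaithfulSMul.eq_of_smul_eq_smul (α := Ω) fun ω => ?_
  obtain ⟨w, hw, rfl⟩ := htrans a ω
  rw [one_smul, ← mul_smul, hcomm v hv w hw, mul_smul, ha]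

end Cfsg.Agent.DerangeInvol
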